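import Mathlib.Topology.KrullDimension
import Mathlib.AlgebraicGeometry.Fiber
import Mathlib.AlgebraicGeometry.Morphisms.Proper
import Mathlib.Topology.Sober
import Mathlib.AlgebraicGeometry.Properties

/-!
# Fibres of dimension at most one and modifications: a topological remark
-/

set_option autoImplicit false

universe u

open CategoryTheory CategoryTheory.Limits AlgebraicGeometry Opposite TopologicalSpace

namespace K162.KTop

/-- In a space of dimension at most one chains of specializations have length at most one. -/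
lemma eq_of_specializes_of_dim_le_one {X : Type*} [TopologicalSpace X] [T0Space X]
    (hX : topologicalKrullDim X ≤ 1) {a b c : X} (hab : a ⤳ b) (hne : a ≠ b) (hbc : b ⤳ c) : b = c := by
  by_contra hbc'
  have hlt : ∀ {x y : X}, x ⤳ y → x ≠ y →
      (⟨closure {y}, isIrreducible_singleton.closure, isClosed_closure⟩ : IrreducibleCloseds X) <
      ⟨closure {x}, isIrreducible_singleton.closure, isClosed_closure⟩ := by
    intro x y hxy hne'
    refine lt_of_le_of_ne ?_ ?_
    · change closure {y} ⊆ closure {x}
      exact hxy.closure_subset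
    · intro h
      apply hne'
      have h1 : closure ({y} : Set X) = closure {x} := congrArg (fun Z : IrreducibleCloseds X => (Z : Set X)) h
      exact (hxy.antisymm ((specializes_iff_closure_subset).2 h1.ge)).eq
  let p : LTSeries (IrreducibleCloseds X) :=
    { length := 2
      toFun := ![⟨closure {c}, isIrreducible_singleton.closure, isClosed_closure⟩,
        ⟨closure {b}, isIrreducible_singleton.closure, isClosed_closure⟩,
        ⟨closure {a}, isIrreducible_singleton.closure, isClosed_closure⟩]
      step := by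
        intro i
        fin_cases i
        · exact hlt hbc hbc'
        · exact hlt hab hne }
  have h := (Order.LTSeries.length_le_krullDim p).trans hX
  have h2 : ((2 : ℕ) : WithBot ℕ∞) ≤ 1 := h
  exact absurd h2 (by decide)

/-- A sober space which is not of dimension zero has a nontrivial specialization. -/
lemma exists_specializes_of_not_dim_le_zero {X : Type*} [TopologicalSpace X] [QuasiSober X]
    (hX : ¬ topologicalKrullDim X ≤ 0) : ∃ a b : X, a ⤳ b ∧ a ≠ b := by
  unfold topologicalKrullDim at hX
  rw [Order.krullDim_nonpos_iff_forall_isMax] at hX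
  push Not at hX
  obtain ⟨Z, hZ⟩ := hX
  rw [not_isMax_iff] at hZ
  obtain ⟨Z', hZ'⟩ := hZ
  obtain ⟨a, ha⟩ := QuasiSober.sober Z'.isIrreducible Z'.isClosed
  obtain ⟨b, hb⟩ := QuasiSober.sober Z.isIrreducible Z.isClosed
  refine ⟨a, b, ?_, ?_⟩
  · rw [specializes_iff_mem_closure, ha.def]
    exact hZ'.le (hb.mem)
  · rintro rfl
    apply hZ'.ne
    apply SetLike.coe_injective
    rw [← ha.def, ← hb.def]

/-- If all fibres of `q ≫ g` have dimension at most one and the fibre of `q` at `v` is not of dimension zero, then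
`v` is closed in its fibre. -/
theorem isClosed_asFiber {X V T : Scheme.{u}} (q : X ⟶ V) [IsProper q] (g : V ⟶ T) (v : V)
    (hv : ¬ topologicalKrullDim (q.fiber v) ≤ 0)
    (hfib : topologicalKrullDim ((q ≫ g).fiber (g v)) ≤ 1) :
    IsClosed ({g.asFiber v} : Set (g.fiber (g v))) := by
  obtain ⟨a, b, hab, hne⟩ := exists_specializes_of_not_dim_le_zero hv
  have hfi : ∀ {A B : Scheme.{u}} (h : A ⟶ B) (y : B) (z : h.fiber y), h (h.fiberι y z) = y := by
    intro A B h y z
    have : h.fiberι y z ∈ Set.range (h.fiberι y) := ⟨z, rfl⟩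
    rw [h.range_fiberι] at this
    exact this
  rw [← closure_subset_iff_isClosed]
  intro z hz
  rw [Set.mem_singleton_iff]
  by_contra hzne
  have h1 : g.asFiber v ⤳ z := specializes_iff_mem_closure.2 hz
  have h2 : v ⤳ g.fiberι (g v) z := by
    have := h1.map (g.fiberι (g v)).continuous
    rwa [g.fiberι_asFiber] at this
  have hx0 : q (q.fiberι v a) = v := hfi q v a
  have hx1 : q (q.fiberι v b) = v := hfi q v b
  have h3 : q.fiberι v a ⤳ q.fiberι v b := hab.map (q.fiberι v).continuous
  have h4 : q.fiberι v a ≠ q.fiberι v b := fun h => hne ((q.fiberι v).isEmbedding.injective h)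
  obtain ⟨x2, h5, h6⟩ : ∃ x2 : X, q.fiberι v b ⤳ x2 ∧ q x2 = g.fiberι (g v) z := by
    have hc : IsClosed (q '' closure {q.fiberι v b}) := q.isClosedMap _ isClosed_closure
    have hm : v ∈ q '' closure {q.fiberι v b} := ⟨_, subset_closure rfl, hx1⟩
    obtain ⟨x2, hx2, hx2'⟩ := h2.mem_closed hc hm
    exact ⟨x2, specializes_iff_mem_closure.2 hx2, hx2'⟩
  have h7 : q.fiberι v b ≠ x2 := by
    rintro h
    apply hzne
    apply (g.fiberι (g v)).isEmbedding.injective
    rw [g.fiberι_asFiber, ← h6, ← h, hx1]
  have hr : ∀ x : X, g (q x) = g v → ∃ y : (q ≫ g).fiber (g v), (q ≫ g).fiberι (g v) y = x := by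
    intro x hx
    have : x ∈ Set.range ((q ≫ g).fiberι (g v)) := by
      rw [(q ≫ g).range_fiberι]
      exact hx
    exact this
  obtain ⟨p0, hp0⟩ := hr (q.fiberι v a) (by rw [hx0])
  obtain ⟨p1, hp1⟩ := hr (q.fiberι v b) (by rw [hx1])
  obtain ⟨p2, hp2⟩ := hr x2 (by rw [h6]; exact hfi g (g v) z)
  have h8 : p0 ⤳ p1 := by
    rw [← ((q ≫ g).fiberι (g v)).isEmbedding.isInducing.specializes_iff, hp0, hp1]
    exact h3
  have h9 : p1 ⤳ p2 := by
    rw [← ((q ≫ g).fiberι (g v)).isEmbedding.isInducing.specializes_iff, hp1, hp2]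
    exact h5
  have h10 : p0 ≠ p1 := by
    rintro rfl
    exact h4 (hp0.symm.trans hp1)
  have h11 := eq_of_specializes_of_dim_le_one hfib h8 h10 h9
  apply h7
  rw [← hp1, ← hp2, h11]

/-- The fibre of `q` at `v` is a subspace of the fibre of `q ≫ g` at `g v`. -/
theorem dim_fiber_le_comp {X V T : Scheme.{u}} (q : X ⟶ V) (g : V ⟶ T) (v : V) :
    topologicalKrullDim (q.fiber v) ≤ topologicalKrullDim ((q ≫ g).fiber (g v)) := by
  have hr : ∀ z : q.fiber v, ∃ y : (q ≫ g).fiber (g v), (q ≫ g).fiberι (g v) y = q.fiberι v z := by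
    intro z
    have h1 : q (q.fiberι v z) = v := by
      have : q.fiberι v z ∈ Set.range (q.fiberι v) := ⟨z, rfl⟩
      rw [q.range_fiberι] at this
      exact this
    have : q.fiberι v z ∈ Set.range ((q ≫ g).fiberι (g v)) := by
      rw [(q ≫ g).range_fiberι]
      change g (q (q.fiberι v z)) = g v
      rw [h1]
    exact this
  choose j hj using hr
  have h1 : Topology.IsInducing (((q ≫ g).fiberι (g v)) ∘ j) := by
    have : ((q ≫ g).fiberι (g v)) ∘ j = q.fiberι v := funext hj
    rw [this]
    exact (q.fiberι v).isEmbedding.isInducing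
  have h2 : Topology.IsInducing j :=
    (((q ≫ g).fiberι (g v)).isEmbedding.isInducing.of_comp_iff).1 h1
  exact h2.topologicalKrullDim_le

end K162.KTop
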