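import Groth.Agent.FibDim.K582.Basic
import Groth.Agent.Sga2lef.H98.DimForm
import Groth.Agent.Sga2lef.H82.FibDepth
import Groth.Agent.CalgA.SerreLocal
import Groth.Agent.Lefpen.H705.ClosedPoint
import Groth.Agent.Ega4B.Codepth
import Groth.Agent.Ega4dB.SmoothReg
import Groth.Agent.TopDim.K284.Basic
import Groth.Agent.Sga5.HcConst
import Groth.Agent.VarietyB.DimTop
import Groth.Agent.CurvesB.DimPts
import Groth.Agent.S0603
import Groth.Agent.Sga3C.CMPoint
import Groth.Agent.CalgA.UnivCat
import Groth.Agent.S0566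
import Groth.Agent.Ega4B.NagBasic
import Groth.Agent.RatRes.K97.ModTools
import Groth.Agent.RatRes.K162.KTop

/-!
# Dimension and depth for a smooth curve fibration over a normal base and a modification of it
-/

set_option autoImplicit false

universe u

open CategoryTheory CategoryTheory.Limits AlgebraicGeometry Opposite TopologicalSpace

namespace K162.KDim

open Groth.Agent Groth.Agent.Ega4dB.FiberStalk

theorem exists_dim_eq (R : Type*) [CommRing R] [IsLocalRing R] [IsNoetherianRing R] :
    ∃ n : ℕ, ringKrullDim R = n := by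
  have h1 := IsLocalRing.maximalIdeal_height_eq_ringKrullDim (R := R)
  have h2 : (IsLocalRing.maximalIdeal R).height ≠ ⊤ := Ideal.height_ne_top (Ideal.IsPrime.ne_top inferInstance)
  obtain ⟨n, hn⟩ := ENat.ne_top_iff_exists.mp h2
  exact ⟨n, by rw [← h1, ← hn]; rfl⟩

section Flat

variable {V T : Scheme.{u}} (g : V ⟶ T)

/-- `dim O_{V,v} = dim O_{T,g v} + dim O_{V_t,v}` for `g` flat. -/
theorem dim_stalk_eq [Flat g] [IsLocallyNoetherian V] [IsLocallyNoetherian T] (v : V) :
    ringKrullDim (V.presheaf.stalk v) =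
      ringKrullDim (T.presheaf.stalk (g v)) + ringKrullDim (CInt.fiberStalk g v) := by
  letI : Algebra (T.presheaf.stalk (g v)) (V.presheaf.stalk v) := (g.stalkMap v).hom.toAlgebra
  have : Module.Flat (T.presheaf.stalk (g v)) (V.presheaf.stalk v) := Flat.stalkMap g v
  have : IsLocalHom (algebraMap (T.presheaf.stalk (g v)) (V.presheaf.stalk v)) :=
    inferInstanceAs (IsLocalHom (g.stalkMap v).hom)
  have h1 := (K582.RingDim.ringKrullDim_add (T.presheaf.stalk (g v)) (V.presheaf.stalk v)).2 inferInstance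
  have h2 := ringKrullDim_eq_of_ringEquiv (fiberStalkEquiv g v)
  rw [h1, ← h2]
  rfl

/-- `depth O_{V,v} = depth O_{T,g v} + depth O_{V_t,v}` for `g` flat. -/
theorem depth_stalk_eq [Flat g] [IsLocallyNoetherian V] [IsLocallyNoetherian T] (v : V) :
    LocCoh.depth (V.presheaf.stalk v) (V.presheaf.stalk v) =
      LocCoh.depth (T.presheaf.stalk (g v)) (T.presheaf.stalk (g v)) +
        LocCoh.depth (CInt.fiberStalk g v) (CInt.fiberStalk g v) := by
  letI : Algebra (T.presheaf.stalk (g v)) (V.presheaf.stalk v) := (g.stalkMap v).hom.toAlgebra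
  have : Module.Flat (T.presheaf.stalk (g v)) (V.presheaf.stalk v) := Flat.stalkMap g v
  have : IsLocalHom (algebraMap (T.presheaf.stalk (g v)) (V.presheaf.stalk v)) :=
    inferInstanceAs (IsLocalHom (g.stalkMap v).hom)
  rw [Sga2lef.H82.FibDepth.depth_fiberStalk_eq]
  have h1 := Groth.Agent.Ega4A.DepthFlat.depth_tensor_eq_add (R := T.presheaf.stalk (g v))
    (S := V.presheaf.stalk v) (V.presheaf.stalk v) (T.presheaf.stalk (g v))
  have h2 : LocCoh.depth (V.presheaf.stalk v)
      (TensorProduct (T.presheaf.stalk (g v)) (V.presheaf.stalk v) (T.presheaf.stalk (g v))) =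
        LocCoh.depth (V.presheaf.stalk v) (V.presheaf.stalk v) :=
    Groth.Agent.CalgB.Depth1.depth_congr
      (TensorProduct.AlgebraTensorModule.rid (T.presheaf.stalk (g v)) (V.presheaf.stalk v) (V.presheaf.stalk v))
  have h3 : LocCoh.depth (V.presheaf.stalk v) ((V.presheaf.stalk v) ⧸ (IsLocalRing.maximalIdeal
      (T.presheaf.stalk (g v))).map (algebraMap (T.presheaf.stalk (g v)) (V.presheaf.stalk v)) •
        (⊤ : Submodule (V.presheaf.stalk v) (V.presheaf.stalk v))) =
      LocCoh.depth (V.presheaf.stalk v) (V.presheaf.stalk v ⧸ fibIdeal g v) :=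
    Groth.Agent.CalgB.Depth1.depth_congr (Submodule.quotEquivOfEq _ _ (by
      rw [smul_eq_mul, Ideal.mul_top]; rfl))
  rw [h2, h3] at h1
  exact h1

end Flat

section Smooth

/-- A scheme smooth of relative dimension `n` over a field has dimension at most `n`. -/
theorem topologicalKrullDim_le_of_smooth (k : Type u) [Field k] (n : ℕ) {X : Scheme.{u}}
    (f : X ⟶ Spec (CommRingCat.of k)) [SmoothOfRelativeDimension n f] : topologicalKrullDim X ≤ n := by
  refine Groth.Agent.VarietyB.DimTop.topologicalKrullDim_le_of_forall fun x => ?_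
  obtain ⟨_, ⟨U, hU, rfl⟩, hx, -⟩ :=
    X.isBasis_affineOpens.exists_subset_of_mem_open (Set.mem_univ x) isOpen_univ
  change X.Opens at U
  refine ⟨U, hx, ?_⟩
  have : IsAffine U := hU
  have : SmoothOfRelativeDimension n (U.ι ≫ f) := by
    have : SmoothOfRelativeDimension (0 + n) (U.ι ≫ f) := inferInstance
    rwa [zero_add] at this
  exact Groth.Agent.Sga5.HcConst.topologicalKrullDim_le k n (U.ι ≫ f)

variable {V T : Scheme.{u}} (g : V ⟶ T) [hg : SmoothOfRelativeDimension 1 g]

include hg

theorem smooth_fiber (t : T) : SmoothOfRelativeDimension 1 (g.fiberToSpecResidueField t) :=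
  have := smoothOfRelativeDimension_isStableUnderBaseChange.{u} 1
  MorphismProperty.of_isPullback (P := @SmoothOfRelativeDimension 1)
    (IsPullback.of_hasPullback g (T.fromSpecResidueField t)) hg

theorem dim_fiberStalk_le (v : V) : ringKrullDim (CInt.fiberStalk g v) ≤ 1 := by
  have h1 := smooth_fiber g (g v)
  have h2 := topologicalKrullDim_le_of_smooth (T.residueField (g v)) 1 (g.fiberToSpecResidueField (g v))
  have h3 : ringKrullDim ((g.fiber (g v)).presheaf.stalk (g.asFiber v)) ≤ topologicalKrullDim (g.fiber (g v)) :=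
    CurvesB.DimPts.ringKrullDim_stalk_le _
  exact h3.trans h2

theorem dim_fiberStalk_eq (v : V) (hv : IsClosed ({g.asFiber v} : Set (g.fiber (g v)))) :
    ringKrullDim (CInt.fiberStalk g v) = 1 := by
  have h1 := smooth_fiber g (g v)
  exact Lefpen.H705.ClosedPoint.ringKrullDim_stalk (k := T.residueField (g v))
    (g.fiberToSpecResidueField (g v)) 1 (g.asFiber v) hv

theorem depth_fiberStalk_eq (v : V) (hv : IsClosed ({g.asFiber v} : Set (g.fiber (g v)))) :
    LocCoh.depth (CInt.fiberStalk g v) (CInt.fiberStalk g v) = 1 := by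
  have h1 := smooth_fiber g (g v)
  have h2 : Smooth (g.fiberToSpecResidueField (g v)) := SmoothOfRelativeDimension.smooth 1 _
  have h3 : IsRegularLocalRing (CInt.fiberStalk g v) :=
    Lefpen.H705.ClosedPoint.isRegularLocalRing_stalk (k := T.residueField (g v))
      (g.fiberToSpecResidueField (g v)) (g.asFiber v)
  have h4 := Groth.Agent.Ega4B.Codepth.depth_self_eq_ringKrullDim (B := CInt.fiberStalk g v)
  rw [dim_fiberStalk_eq g v hv] at h4
  exact_mod_cast h4

theorem three_le_depth [IsLocallyNoetherian V] [IsLocallyNoetherian T] (hT : Pi1.IsNormalScheme T) (v : V)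
    (h1 : ¬ ringKrullDim (T.presheaf.stalk (g v)) ≤ 1)
    (hv : IsClosed ({g.asFiber v} : Set (g.fiber (g v)))) :
    (3 : ℕ∞) ≤ LocCoh.depth (V.presheaf.stalk v) (V.presheaf.stalk v) := by
  have hsm : Smooth g := SmoothOfRelativeDimension.smooth 1 g
  obtain ⟨hd, hi⟩ := hT (g v)
  rw [depth_stalk_eq g v, depth_fiberStalk_eq g v hv]
  have h2 := CalgA.SerreLocal.two_le_depth_of_isIntegrallyClosed (R := T.presheaf.stalk (g v)) h1
  calc (3 : ℕ∞) = 2 + 1 := by norm_num
    _ ≤ _ := by gcongr

theorem three_le_dim [IsLocallyNoetherian V] [IsLocallyNoetherian T] (v : V)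
    (h1 : ¬ ringKrullDim (T.presheaf.stalk (g v)) ≤ 1)
    (hv : IsClosed ({g.asFiber v} : Set (g.fiber (g v)))) (c : ℕ)
    (hc : ringKrullDim (V.presheaf.stalk v) = c) : 3 ≤ c := by
  have hsm : Smooth g := SmoothOfRelativeDimension.smooth 1 g
  obtain ⟨n, hn⟩ := exists_dim_eq (T.presheaf.stalk (g v))
  have h2 := dim_stalk_eq g v
  rw [dim_fiberStalk_eq g v hv, hn, hc] at h2
  rw [hn] at h1
  have h3 : ¬ n ≤ 1 := fun h => h1 (by exact_mod_cast h)
  have h4 : c = n + 1 := by exact_mod_cast h2
  omega

theorem dim_le_two [IsLocallyNoetherian V] [IsLocallyNoetherian T] (v : V)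
    (h1 : ringKrullDim (T.presheaf.stalk (g v)) ≤ 1) (c : ℕ)
    (hc : ringKrullDim (V.presheaf.stalk v) = c) : c ≤ 2 := by
  have hsm : Smooth g := SmoothOfRelativeDimension.smooth 1 g
  obtain ⟨n, hn⟩ := exists_dim_eq (T.presheaf.stalk (g v))
  have h2 := dim_stalk_eq g v
  have h5 := dim_fiberStalk_le g v
  rw [hn, hc] at h2
  rw [hn] at h1
  have h3 : n ≤ 1 := by exact_mod_cast h1
  have h4 : (c : WithBot ℕ∞) ≤ n + 1 := by
    rw [h2]
    gcongr
  have h6 : c ≤ n + 1 := by exact_mod_cast h4
  omega

end Smooth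

section Formula

variable {k : Type u} [Field k] {V X : Scheme.{u}} [IsAffine V] [IsIntegral V]
  (p : V ⟶ Spec (CommRingCat.of k)) [LocallyOfFiniteType p]

include p in
theorem isUniversallyCatenary_Γ : CAlg.IsUniversallyCatenary Γ(V, ⊤) := by
  let φ : k →+* Γ(V, ⊤) := (p.appLE ⊤ ⊤ le_top).hom.comp
    (Scheme.ΓSpecIso (CommRingCat.of k)).inv.hom
  have hφ : φ.FiniteType := by
    refine RingHom.FiniteType.comp ?_ ?_
    · exact p.finiteType_appLE (isAffineOpen_top _) (isAffineOpen_top _) _
    · exact RingHom.FiniteType.of_surjective _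
        (Scheme.ΓSpecIso (CommRingCat.of k)).symm.commRingCatIsoToRingEquiv.surjective
  let := φ.toAlgebra
  have : Algebra.FiniteType k Γ(V, ⊤) := hφ
  have h1 : CAlg.IsUniversallyCatenary k :=
    have := Groth.Agent.Sga3C.CMPoint.isCohenMacaulayRing_field k
    Groth.Agent.S0603.result k
  exact CalgA.UnivCat.isUniversallyCatenary_of_finiteType (R := k) h1

omit [IsAffine V] in
/-- The generic fibre of a modification is of dimension zero. -/
theorem dim_generic_fiber {q : X ⟶ V} (hq : CurvesC.Modif.IsModif q) :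
    topologicalKrullDim (q.fiber (genericPoint V)) = 0 := by
  obtain ⟨O, hO, hqO⟩ := hq.exists_isIso
  have hη : genericPoint V ∈ O := ((genericPoint_spec V).mem_open_set_iff O.isOpen).mpr (by simpa using hO)
  have h1 : IsPullback (q.fiberι (genericPoint V)) (q.fiberToSpecResidueField (genericPoint V)) q
      (V.fromSpecResidueField (genericPoint V)) := IsPullback.of_hasPullback _ _
  have h2 : IsIso (q.fiberToSpecResidueField (genericPoint V)) := by
    refine K376.Dominate.isIso_of_isPullback h1 O ?_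
    rintro _ ⟨x, rfl⟩
    rw [Scheme.fromSpecResidueField_apply]
    exact hη
  have h3 : topologicalKrullDim (q.fiber (genericPoint V)) =
      topologicalKrullDim (Spec (V.residueField (genericPoint V))) :=
    IsHomeomorph.topologicalKrullDim_eq _ (q.fiberToSpecResidueField (genericPoint V)).homeomorph.isHomeomorph
  have h4 : topologicalKrullDim (Spec (V.residueField (genericPoint V))) = 0 := by
    have h5 : Subsingleton (Spec (V.residueField (genericPoint V))) :=
      inferInstanceAs (Subsingleton (PrimeSpectrum (V.residueField (genericPoint V))))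
    have h6 : Nonempty (Spec (V.residueField (genericPoint V))) :=
      inferInstanceAs (Nonempty (PrimeSpectrum (V.residueField (genericPoint V))))
    exact le_antisymm (topologicalKrullDim_zero_of_discreteTopology _) K284.TopDim.dim_nonneg
  rw [h3, h4]

include p in
/-- The dimension formula for a modification. -/
theorem exists_dim_formula {q : X ⟶ V} (hq : CurvesC.Modif.IsModif q) (x : X) :
    ∃ a b c : ℕ, ringKrullDim (X.presheaf.stalk x) = a ∧ CycB.RelDim.rtd q x = b ∧
      ringKrullDim (V.presheaf.stalk (q x)) = c ∧ a + b = c := by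
  have := hq.proper
  have := hq.integral
  have := hq.surjective
  have hgen := K97.ModTools.map_genericPoint hq
  obtain ⟨a, b, c, d, ha, hb, hc, hd, h⟩ := Groth.Agent.Sga2lef.H98.DimForm.exists_dim_formula q
    hgen x ⊤ (isAffineOpen_top V) trivial (isUniversallyCatenary_Γ p)
  refine ⟨a, b, c, ha, hb, hc, ?_⟩
  have h0 : d = 0 := by
    have h1 := Ega4fib.H112.FibreFormula.topologicalKrullDim_fiber_genericPoint q d hd
    rw [dim_generic_fiber hq] at h1
    exact_mod_cast h1.symm
  omega

theorem two_le_dim_of_specializes [IsIntegral X] {x y : X} (h : x ⤳ y) (hne : x ≠ y)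
    (hx : x ≠ genericPoint X) : 2 ≤ ringKrullDim (X.presheaf.stalk y) := by
  rw [ringKrullDim_stalk_eq_coheight]
  have hlt : ∀ {a b : X}, a ⤳ b → a ≠ b → b < a := by
    intro a b hab hne
    refine lt_of_le_not_ge hab fun hba => hne ?_
    exact (hab.antisymm hba).eq
  have h1 := Order.coheight_add_one_le (hlt h hne)
  have h2 := Order.coheight_add_one_le (hlt (genericPoint_specializes x) (Ne.symm hx))
  have h3 : (2 : ℕ∞) ≤ Order.coheight y := by
    calc (2 : ℕ∞) = 0 + 1 + 1 := by norm_num
      _ ≤ Order.coheight (genericPoint X) + 1 + 1 := by gcongr; exact zero_le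
      _ ≤ Order.coheight x + 1 := by gcongr
      _ ≤ _ := h1
  exact WithBot.coe_le_coe.mpr h3

include p in
/-- If the fibre of a modification at `v` is not of dimension zero then `dim O_{V,v} ≥ 2`. -/
theorem two_le_of_fiber {q : X ⟶ V} (hq : CurvesC.Modif.IsModif q) (v : V)
    (h : ¬ topologicalKrullDim (q.fiber v) ≤ 0) (c : ℕ) (hc : ringKrullDim (V.presheaf.stalk v) = c) :
    2 ≤ c := by
  have := hq.proper
  have := hq.integral
  obtain ⟨s, t, hst, hne⟩ := KTop.exists_specializes_of_not_dim_le_zero h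
  have h1 : ∀ z : q.fiber v, q (q.fiberι v z) = v := by
    intro z
    have : q.fiberι v z ∈ Set.range (q.fiberι v) := ⟨z, rfl⟩
    rw [q.range_fiberι] at this
    exact this
  have h2 : q.fiberι v s ≠ genericPoint X := by
    intro hs
    apply h
    have h3 := h1 s
    rw [hs, K97.ModTools.map_genericPoint hq] at h3
    rw [← h3, dim_generic_fiber hq]
  have h4 := two_le_dim_of_specializes (hst.map (q.fiberι v).continuous)
    (fun h => hne ((q.fiberι v).isEmbedding.injective h)) h2
  obtain ⟨a, b, c', ha, -, hc', hab⟩ := exists_dim_formula p hq (q.fiberι v t)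
  rw [h1 t, hc] at hc'
  rw [ha] at h4
  have h5 : c = c' := by exact_mod_cast hc'
  have h6 : 2 ≤ a := by exact_mod_cast h4
  omega

/-- A field is a Nagata ring. -/
theorem isNagata_field (k : Type u) [Field k] : CAlg.IsNagata k := by
  refine ⟨inferInstance, ?_⟩
  intro p hp L _ _ _ _ hfin
  have hp' : p = ⊥ := by
    rcases Ideal.eq_bot_or_top p with h | h
    · exact h
    · exact absurd h hp.ne_top
  have hmax : p.IsMaximal := by rw [hp']; exact Ideal.bot_isMaximal
  let : Field (k ⧸ p) := Ideal.Quotient.field p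
  have hsurj : Function.Surjective (algebraMap (k ⧸ p) (FractionRing (k ⧸ p))) :=
    IsField.localization_map_bijective (M := nonZeroDivisors (k ⧸ p)) zero_notMem_nonZeroDivisors
      (Field.toIsField (k ⧸ p)) |>.2
  have h1 : Module.Finite (k ⧸ p) (FractionRing (k ⧸ p)) :=
    Module.Finite.of_surjective (Algebra.linearMap (k ⧸ p) (FractionRing (k ⧸ p))) hsurj
  have h2 : Module.Finite (k ⧸ p) L := Module.Finite.trans (FractionRing (k ⧸ p)) L
  exact Module.Finite.of_injective (Subalgebra.val (integralClosure (k ⧸ p) L)).toLinearMap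
    Subtype.val_injective

include p in
theorem isNagata_stalk (v : V) : CAlg.IsNagata (V.presheaf.stalk v) := by
  let φ : k →+* Γ(V, ⊤) := (p.appLE ⊤ ⊤ le_top).hom.comp
    (Scheme.ΓSpecIso (CommRingCat.of k)).inv.hom
  have hφ : φ.FiniteType := by
    refine RingHom.FiniteType.comp ?_ ?_
    · exact p.finiteType_appLE (isAffineOpen_top _) (isAffineOpen_top _) _
    · exact RingHom.FiniteType.of_surjective _
        (Scheme.ΓSpecIso (CommRingCat.of k)).symm.commRingCatIsoToRingEquiv.surjective
  let := φ.toAlgebra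
  have : Algebra.FiniteType k Γ(V, ⊤) := hφ
  have h1 : CAlg.IsNagata Γ(V, ⊤) := Groth.Agent.S0566.result k (isNagata_field k) Γ(V, ⊤)
  let _ : Algebra Γ(V, ⊤) (V.presheaf.stalk v) := (V.presheaf.germ ⊤ v trivial).hom.toAlgebra
  have h2 := (isAffineOpen_top V).isLocalization_stalk ⟨v, trivial⟩
  exact Ega4B.NagBasic.isNagata_localization h1
    ((isAffineOpen_top V).primeIdealOf ⟨v, trivial⟩).asIdeal.primeCompl _

theorem rtd_le_fiber (q : X ⟶ V) [LocallyOfFiniteType q] (x : X) (b : ℕ) (hb : CycB.RelDim.rtd q x = b) :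
    (b : WithBot ℕ∞) ≤ topologicalKrullDim (q.fiber (q x)) := by
  have h1 := Ega4fib.H112.FibreFormula.fibreDimAt_eq_add q x b hb
  have h2 : FlatMor.fibreDimAt q x ≤ topologicalKrullDim (q.fiber (q x)) :=
    K284.TopDim.localDim_le_dim _
  rw [h1] at h2
  refine le_trans ?_ h2
  refine le_add_of_nonneg_left ?_
  exact ringKrullDim_nonneg_of_nontrivial

end Formula

end K162.KDim
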