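import Groth.Agent.RatRes.K97.Models
import Groth.Agent.S0384

/-!
# Extending and dominating modifications of open subschemes

* `exists_extension`: a modification of a nonempty open subscheme of an integral Noetherian scheme is the restriction
  of a modification of the whole scheme.
* `exists_dominate`: finitely many modifications of open subschemes are dominated by one normal modification.
-/

set_option autoImplicit false
universe u v
open CategoryTheory CategoryTheory.Limits AlgebraicGeometry TopologicalSpace Opposite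

namespace K162.Dominate

open Groth.Agent.CurvesC.ModDim Groth.Agent.CurvesC.Modif K376.Dominate

/-- An open immersion with closed range into an irreducible scheme is an isomorphism. -/
theorem isIso_of_isProper {M P : Scheme.{u}} [Nonempty M] [IrreducibleSpace P] (j : M ⟶ P) [IsOpenImmersion j]
    [IsProper j] : IsIso j := by
  have h1 : IsOpen (Set.range j) := j.isOpenEmbedding.isOpen_range
  have h2 : IsClosed (Set.range j) := j.isClosedMap.isClosed_range
  have h3 : Set.range j = Set.univ := IsClopen.eq_univ ⟨h2, h1⟩ (Set.range_nonempty j)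
  have h4 : Function.Surjective j := Set.range_eq_univ.mp h3
  have : Surjective j := ⟨h4⟩
  have : Epi j.base := (TopCat.epi_iff_surjective _).mpr h4
  exact IsOpenImmersion.isIso j

/-- Extension of a modification of an open subscheme. -/
theorem exists_extension {Z M : Scheme.{u}} [IsIntegral Z] [CompactSpace Z] [IsLocallyNoetherian Z]
    (V : Z.Opens) (m : M ⟶ V.toScheme) (hm : IsModif m) :
    ∃ (X : Scheme.{u}) (f : X ⟶ Z), IsModif f ∧ ∃ c : (f ⁻¹ᵁ V).toScheme ⟶ M, c ≫ m = f ∣_ V := by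
  have := hm.proper
  have := hm.integral
  obtain ⟨Xc, j, g, hj, -, hg, hjg⟩ := Groth.Agent.S0384.result (m ≫ V.ι)
  let W := j.opensRange
  let e : M ≅ W.toScheme := j.isoOpensRange
  have he : e.hom ≫ W.ι = j := Scheme.Hom.isoOpensRange_hom_ι j
  have hneM : Nonempty M := inferInstance
  have hneW : Nonempty W.toScheme := hneM.map e.hom
  have : IsIntegral W.toScheme := isIntegral_of_isOpenImmersion e.inv
  obtain ⟨X, i, hi, hint, hiso, hrange⟩ := exists_closure W
  let j' : M ⟶ X := e.hom ≫ inv (i ∣_ W) ≫ (i ⁻¹ᵁ W).ι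
  have hj' : j' ≫ i = j := by
    have h1 : (i ⁻¹ᵁ W).ι ≫ i = (i ∣_ W) ≫ W.ι := (morphismRestrict_ι i W).symm
    simp only [j', Category.assoc, h1, IsIso.inv_hom_id_assoc, he]
  have hj'f : j' ≫ (i ≫ g) = m ≫ V.ι := by rw [← Category.assoc, hj', hjg]
  have hj'o : IsOpenImmersion j' := inferInstance
  let f : X ⟶ Z := i ≫ g
  have hle : Set.range j' ⊆ Set.range (f ⁻¹ᵁ V).ι := by
    rw [Scheme.Opens.range_ι]
    rintro _ ⟨x, rfl⟩
    change f (j' x) ∈ V
    rw [← Scheme.Hom.comp_apply, hj'f, Scheme.Hom.comp_apply]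
    exact (m x).2
  let c : M ⟶ (f ⁻¹ᵁ V).toScheme := IsOpenImmersion.lift (f ⁻¹ᵁ V).ι j' hle
  have hc : c ≫ (f ⁻¹ᵁ V).ι = j' := IsOpenImmersion.lift_fac _ _ _
  have hcm : c ≫ (f ∣_ V) = m := by
    rw [← cancel_mono V.ι, Category.assoc, morphismRestrict_ι, ← Category.assoc, hc, hj'f]
  have hco : IsOpenImmersion c := by
    have : IsOpenImmersion (c ≫ (f ⁻¹ᵁ V).ι) := by rw [hc]; exact hj'o
    exact IsOpenImmersion.of_comp c (f ⁻¹ᵁ V).ι
  have hfp : IsProper f := inferInstance
  have hcp : IsProper c := by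
    have : IsProper (c ≫ (f ∣_ V)) := by rw [hcm]; infer_instance
    exact IsProper.of_comp c (f ∣_ V)
  have hne : Nonempty M := inferInstance
  have hne' : Nonempty (f ⁻¹ᵁ V).toScheme := hne.map c
  have hirr : IsIntegral (f ⁻¹ᵁ V).toScheme := inferInstance
  have hciso : IsIso c := isIso_of_isProper c
  refine ⟨X, f, ⟨hfp, hint, ?_⟩, inv c, by rw [IsIso.inv_comp_eq, hcm]⟩
  obtain ⟨U, hU, hmU⟩ := hm.exists_isIso
  refine ⟨V.ι ''ᵁ U, hU.image _, ?_⟩
  have h1 : f ∣_ V = inv c ≫ m := by rw [IsIso.eq_inv_comp, hcm]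
  have h2 : IsIso (f ∣_ V ∣_ U) := by
    rw [h1, morphismRestrict_comp]
    have h3 : IsIso (inv c ∣_ (m ⁻¹ᵁ U)) := inferInstanceAs (IsIso (inv c ∣_ (m ⁻¹ᵁ U)))
    exact IsIso.comp_isIso' h3 hmU
  exact (MorphismProperty.isomorphisms Scheme.{u}).arrow_mk_iso_iff (morphismRestrictRestrict f V U) |>.mp h2

section

variable {Z : Scheme.{u}} {ι : Type v} (V : ι → Z.Opens) (M : ι → Scheme.{u}) (m : ∀ j, M j ⟶ (V j).toScheme)

/-- The modification `h` dominates the modification `m j` of the open `V j`. -/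
def Good {Z' : Scheme.{u}} (h : Z' ⟶ Z) (j : ι) : Prop :=
  ∃ c : (h ⁻¹ᵁ V j).toScheme ⟶ M j, c ≫ m j = h ∣_ V j

variable {V M m}

theorem Good.comp {Z' Z'' : Scheme.{u}} {h : Z' ⟶ Z} {j : ι} (H : Good V M m h j) (ν : Z'' ⟶ Z') :
    Good V M m (ν ≫ h) j := by
  obtain ⟨c, hc⟩ := H
  exact ⟨(ν ∣_ (h ⁻¹ᵁ V j)) ≫ c,
    (Category.assoc _ _ _).trans ((congrArg (fun t => (ν ∣_ (h ⁻¹ᵁ V j)) ≫ t) hc).trans
      (morphismRestrict_comp ν h (V j)).symm)⟩

variable (V M m)

/-- Finitely many modifications of open subschemes are dominated by one modification. -/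
theorem exists_good [IsIntegral Z] [CompactSpace Z] [IsLocallyNoetherian Z]
    (hm : ∀ j, (V j : Set Z).Nonempty → IsModif (m j)) (s : Finset ι) :
    ∃ (Z' : Scheme.{u}) (h : Z' ⟶ Z), IsModif h ∧ ∀ j ∈ s, (V j : Set Z).Nonempty → Good V M m h j := by
  classical
  induction s using Finset.induction_on with
  | empty =>
    refine ⟨Z, 𝟙 Z, ⟨inferInstance, inferInstance, ⊤, Set.univ_nonempty, inferInstance⟩, fun j hj => ?_⟩
    simp at hj
  | insert a s _ IH =>
    obtain ⟨Z', h, hh, hg⟩ := IH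
    by_cases hV : (V a : Set Z).Nonempty
    · obtain ⟨X, f, hf, c, hc⟩ := exists_extension (V a) (m a) (hm a hV)
      obtain ⟨X₃, π₁, π₂, hπ, hmod⟩ := exists_dominating hh hf
      refine ⟨X₃, π₁ ≫ h, hmod, fun j hj hVj => ?_⟩
      rcases Finset.mem_insert.mp hj with rfl | hj
      · rw [hπ]
        exact Good.comp ⟨c, hc⟩ π₂
      · exact (hg j hj hVj).comp π₁
    · refine ⟨Z', h, hh, fun j hj hVj => ?_⟩
      rcases Finset.mem_insert.mp hj with rfl | hj
      · exact absurd hVj hV
      · exact hg j hj hVj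

/-- The normalization of a modification of a Nagata scheme is a modification. -/
theorem exists_normal [IsIntegral Z] [CompactSpace Z] [QuasiSeparatedSpace Z] (hN : K375.NagSch.IsNag Z)
    {Z' : Scheme.{u}} {h : Z' ⟶ Z} (hh : IsModif h) :
    ∃ (Z'' : Scheme.{u}) (ν : Z'' ⟶ Z'), IsModif ν ∧ IsFinite ν ∧ Pi1.IsNormalScheme Z'' := by
  have := hh.proper
  have := hh.integral
  have hN' : K375.NagSch.IsNag Z' := K375.NagSch.isNag_of_locallyOfFiniteType h hN
  have : QuasiSeparatedSpace Z' := quasiSeparatedSpace_of_quasiSeparated h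
  have i1 : QuasiCompact (Z'.fromSpecStalk (genericPoint Z')) := inferInstance
  have i2 : QuasiSeparated (Z'.fromSpecStalk (genericPoint Z')) := inferInstance
  have hν := Groth.Agent.Resolve.K375.NagNorm.isModif_normalizationι Z' hN'
  have hνf := K375.NagSch.isFinite_normalizationι Z' hN'
  obtain ⟨-, hnorm, -, -⟩ := Groth.Agent.S2351.result Z'
  exact ⟨Curv2.normalization Z', Curv2.normalizationι Z', hν, hνf, hnorm⟩

/-- Finitely many modifications of open subschemes of a Nagata scheme are dominated by one normal modification. -/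
theorem exists_dominate_nagata [Finite ι] [IsIntegral Z] [CompactSpace Z] [QuasiSeparatedSpace Z]
    (hN : K375.NagSch.IsNag Z) (hm : ∀ j, (V j : Set Z).Nonempty → IsModif (m j)) :
    ∃ (Z' : Scheme.{u}) (h : Z' ⟶ Z), IsModif h ∧ Pi1.IsNormalScheme Z' ∧
      ∀ j, (V j : Set Z).Nonempty → ∃ c : (h ⁻¹ᵁ V j).toScheme ⟶ M j, c ≫ m j = h ∣_ V j := by
  have := hN.isLocallyNoetherian
  have := Fintype.ofFinite ι
  obtain ⟨Z', h, hh, hg⟩ := exists_good V M m hm Finset.univ
  obtain ⟨Z'', ν, hν, -, hnorm⟩ := exists_normal (Z := Z) hN hh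
  exact ⟨Z'', ν ≫ h, hν.comp hh, hnorm, fun j hj => (hg j (Finset.mem_univ j) hj).comp ν⟩

/-- Finitely many modifications of open subschemes of an integral scheme of finite type over a field are dominated by
one normal modification. -/
theorem exists_dominate (k : Type u) [Field k] [Finite ι] [IsIntegral Z] (a : Z ⟶ Spec (CommRingCat.of k))
    [LocallyOfFiniteType a] [QuasiCompact a] [QuasiSeparated a]
    (hm : ∀ j, (V j : Set Z).Nonempty → IsModif (m j)) :
    ∃ (Z' : Scheme.{u}) (h : Z' ⟶ Z), IsModif h ∧ Pi1.IsNormalScheme Z' ∧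
      ∀ j, (V j : Set Z).Nonempty → ∃ c : (h ⁻¹ᵁ V j).toScheme ⟶ M j, c ≫ m j = h ∣_ V j := by
  have hk : K375.NagSch.IsNag (Spec (CommRingCat.of k)) :=
    K375.NagSch.isNag_Spec (A := CommRingCat.of k) (K97.Models.isNagata_field k)
  have : CompactSpace Z := QuasiCompact.compactSpace_of_compactSpace a
  have : QuasiSeparatedSpace Z := quasiSeparatedSpace_of_quasiSeparated a
  exact exists_dominate_nagata V M m (K375.NagSch.isNag_of_locallyOfFiniteType a hk) hm

end

end K162.Dominate
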