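import Groth.Agent.S6034
import Groth.Agent.S6020
import Groth.Agent.S0036
import Groth.Agent.S0042
import Groth.Agent.Ega3B.RpushAbCmp
import Groth.Agent.Ega3B.Devissage
import Groth.Agent.Krr.H469.VanBC
import Groth.Agent.Flat2D.LocalGlobalH
import Groth.Agent.CohqA.RpushLoc
import Groth.Agent.CohtopB.TopStalk
import Groth.Agent.PerfC.FlatExact
import Groth.Agent.Smoothlim.OmegaStalk
import Groth.Agent.CalgB.Depth1
import Groth.Agent.Dcoh.FreeSec
import Groth.Agent.Dcoh.Restrict
import Groth.Agent.CurvesC.UnitCoh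
import Groth.Agent.RatRes.K97.ModTools

/-!
# Vanishing of `H^1(X, O_X)` by depth along the non-trivial locus of `R^1 q_* O_X`
-/

set_option autoImplicit false

universe u

open CategoryTheory CategoryTheory.Limits AlgebraicGeometry Opposite TopologicalSpace

namespace K162.KCoh

open Groth.Agent

variable {X V : Scheme.{u}} (q : X ⟶ V)

/-- Fibres of dimension at most `d`: `R^p q_* M = 0` for `p > d`. -/
theorem isZero_RpushAb_of_fiber [IsProper q] [IsLocallyNoetherian V] (d : ℕ)
    (hd : ∀ y : V, topologicalKrullDim ↥(q.fiber y) ≤ d) (M : X.Modules) (hM : Coh.IsCoh M)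
    (p : ℕ) (hp : d < p) : IsZero ((Coh.RpushAb q p).obj (Coh.toAb M)) :=
  CohtopB.TopStalk.isZero_of_stalks (X := V.toTopCat) _
    fun y => Groth.Agent.S0042.result q y d (hd y) M hM p hp

/-- The restriction of `R^p q_* M` to an open avoiding its support vanishes. -/
theorem isZero_Rpush_restrict (M : X.Modules) (p : ℕ) (W : V.Opens)
    (hW : ∀ v ∈ W, Subsingleton (((Coh.Rpush q p).obj M).presheaf.stalk v)) :
    IsZero ((Coh.Rpush (q ∣_ W) p).obj (M.restrict (q ⁻¹ᵁ W).ι)) := by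
  have h1 : IsZero (((Coh.Rpush q p).obj M).restrict W.ι) := by
    rw [PerfC.FlatExact.isZero_iff_subsingleton_stalk]
    intro x
    rw [Smoothlim.OmegaStalk.subsingleton_stalk_restrict]
    exact hW _ x.2
  exact h1.of_iso (CohqA.RpushLoc.rpushResOpen q W p M).symm

/-- Depth of the stalk of the structure module. -/
theorem depth_structureModule (x : X) :
    LocCoh.depth (X.presheaf.stalk x) ((Coh.structureModule X).presheaf.stalk x) =
      LocCoh.depth (X.presheaf.stalk x) (X.presheaf.stalk x) :=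
  (CalgB.Depth1.depth_congr (Dcoh.FreeSec.stalkUnit x)).symm

/-- `H^1(W, O_V) = 0` for `V` affine if `depth O_{V,v} ≥ 3` outside `W`. -/
theorem subsingleton_HH_open [IsAffine V] [IsLocallyNoetherian V] (W : V.Opens)
    (hd : ∀ v : V, v ∉ W → (3 : ℕ∞) ≤ LocCoh.depth (V.presheaf.stalk v) (V.presheaf.stalk v)) :
    Subsingleton (Coh.HH (W : Scheme.{u}) (Coh.structureModule (W : Scheme.{u})) 1) := by
  have hQ : Coh.IsQCoh (Coh.structureModule V) := CurvesC.UnitCoh.isQCoh_unit V
  have h1 := (Groth.Agent.S6034.result V W (Coh.structureModule V) (CurvesC.UnitCoh.isCoh_unit V) 3).2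
    (fun x hx => by
      rw [depth_structureModule]
      exact hd x hx)
  have h2 := ((Groth.Agent.S6020.result (X := V.toTopCat) (Coh.toAb (Coh.structureModule V)) W 2).1
    (fun i hi => h1 i (by omega)) ⊤).1 1 (by omega)
  have h3 : Subsingleton (CohTop.HU (X := V.toTopCat) (Coh.toAb (Coh.structureModule V)) 1 (⊤ : V.Opens)) :=
    CohqA.AffineVanish.HU_subsingleton (Coh.structureModule V) 1 one_pos ⊤ (isAffineOpen_top V)
  have h4 : Subsingleton (CohTop.HU (X := V.toTopCat) (Coh.toAb (Coh.structureModule V)) 1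
      ((⊤ : Opens V.toTopCat) ⊓ W)) := h2.2.subsingleton
  have h5 : (⊤ : V.Opens) ⊓ W = W := top_inf_eq W
  have h6 : Subsingleton (CohTop.HU (X := V.toTopCat) (Coh.toAb (Coh.structureModule V)) 1 W) := by
    rw [← h5]
    exact h4
  have h7 := (Flat2D.LocalGlobalH.HU_iff_HHon (Coh.structureModule V) W 1).1 h6
  exact (Flat2G.StructHH.HHon_iff W.ι W (by simp) 1).1 h7

/-- `H^1(X, O_X) = 0` if it vanishes on an open outside of which `depth O_{X,x} ≥ 2`. -/
theorem subsingleton_HH_of_open [IsLocallyNoetherian X] (U : X.Opens)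
    (hd : ∀ x : X, x ∉ U → (2 : ℕ∞) ≤ LocCoh.depth (X.presheaf.stalk x) (X.presheaf.stalk x))
    (h : Subsingleton (Coh.HH (U : Scheme.{u}) (Coh.structureModule (U : Scheme.{u})) 1)) :
    Subsingleton (Coh.HH X (Coh.structureModule X) 1) := by
  have h1 := (Groth.Agent.S6034.result X U (Coh.structureModule X) (CurvesC.UnitCoh.isCoh_unit X) 2).2
    (fun x hx => by
      rw [depth_structureModule]
      exact hd x hx)
  have h2 := ((Groth.Agent.S6020.result (X := X.toTopCat) (Coh.toAb (Coh.structureModule X)) U 1).1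
    (fun i hi => h1 i (by omega)) ⊤).2
  have h7 := (Flat2G.StructHH.HHon_iff U.ι U (by simp) 1).2 h
  have h6 := (Flat2D.LocalGlobalH.HU_iff_HHon (Coh.structureModule X) U 1).2 h7
  have h5 : (⊤ : X.Opens) ⊓ U = U := top_inf_eq U
  have h4 : Subsingleton (CohTop.HU (X := X.toTopCat) (Coh.toAb (Coh.structureModule X)) 1
      ((⊤ : Opens X.toTopCat) ⊓ U)) := by
    have h8 : Subsingleton (CohTop.HU (X := X.toTopCat) (Coh.toAb (Coh.structureModule X)) 1
      ((⊤ : X.Opens) ⊓ U)) := by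
      rw [h5]
      exact h6
    exact h8
  have h3 : Subsingleton (CohTop.HU (X := X.toTopCat) (Coh.toAb (Coh.structureModule X)) 1 (⊤ : X.Opens)) :=
    h2.subsingleton
  exact (Flat2D.LocalGlobalH.HU_top_iff (Coh.structureModule X) 1).1 h3

/-- Vanishing over affine opens of `W` of all higher cohomology. -/
theorem subsingleton_HH_affine [QuasiCompact q] [QuasiSeparated q] (W : V.Opens) (p : ℕ)
    (hR : IsZero ((Coh.Rpush (q ∣_ W) p).obj ((Coh.structureModule X).restrict (q ⁻¹ᵁ W).ι)))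
    (U : (W : Scheme.{u}).Opens) (hU : IsAffineOpen U) :
    Subsingleton (Coh.HH ((q ∣_ W) ⁻¹ᵁ U).toScheme (Coh.structureModule ((q ∣_ W) ⁻¹ᵁ U).toScheme) p) := by
  have hM : Coh.IsQCoh ((Coh.structureModule X).restrict (q ⁻¹ᵁ W).ι) :=
    PerfA.QCohSerre.isQCoh_restrict _ (CurvesC.UnitCoh.isQCoh_unit X)
  have h1 := Krr.H469.VanBC.subsingleton_HH_of_isZero (q ∣_ W) _ hM p
    ((Ega3B.RpushAbCmp.isZero_RpushAb_iff (q ∣_ W) _ p).2 hR) U hU
  exact Flat2D.LocalGlobalH.subsingleton_HH_of_iso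
    ((Scheme.Modules.restrictFunctor ((q ∣_ W) ⁻¹ᵁ U).ι).mapIso (Dcoh.Restrict.restrictUnit (q ⁻¹ᵁ W).ι) ≪≫
      Dcoh.Restrict.restrictUnit ((q ∣_ W) ⁻¹ᵁ U).ι) p h1

/-- The cohomological core. -/
theorem subsingleton_HH_one [IsAffine V] [IsLocallyNoetherian V] [IsLocallyNoetherian X] [IsProper q]
    (hO : ∀ U : V.Opens, IsIso (q.app U))
    (hR : ∀ p, 2 ≤ p → IsZero ((Coh.RpushAb q p).obj (Coh.toAb (Coh.structureModule X))))
    (hdV : ∀ v : V, ¬ IsZero (TopCat.Presheaf.stalk ((Coh.RpushAb q 1).obj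
      (Coh.toAb (Coh.structureModule X))).obj v) →
      (3 : ℕ∞) ≤ LocCoh.depth (V.presheaf.stalk v) (V.presheaf.stalk v))
    (hdX : ∀ x : X, ¬ IsZero (TopCat.Presheaf.stalk ((Coh.RpushAb q 1).obj
      (Coh.toAb (Coh.structureModule X))).obj (q x)) →
      (2 : ℕ∞) ≤ LocCoh.depth (X.presheaf.stalk x) (X.presheaf.stalk x)) :
    Subsingleton (Coh.HH X (Coh.structureModule X) 1) := by
  let N := (Coh.Rpush q 1).obj (Coh.structureModule X)
  have hN : Coh.IsCoh N := Groth.Agent.S0036.result q _ (CurvesC.UnitCoh.isCoh_unit X) 1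
  have hcl : IsClosed (CohB1.support N) := Ega3B.Devissage.isClosed_support hN
  let W : V.Opens := ⟨(CohB1.support N)ᶜ, hcl.isOpen_compl⟩
  obtain ⟨e⟩ := Ega3B.RpushAbCmp.nonempty_toAb_Rpush_iso q (Coh.structureModule X) 1
  have hbad : ∀ v : V, v ∉ W → ¬ IsZero (TopCat.Presheaf.stalk ((Coh.RpushAb q 1).obj
      (Coh.toAb (Coh.structureModule X))).obj v) := by
    intro v hv hz
    apply hv
    change ¬ ¬ Subsingleton (N.presheaf.stalk v)
    rw [not_not]
    have h1 : IsZero (TopCat.Presheaf.stalk (Coh.toAb N).obj v) :=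
      CohqB.RpushStalk.isZero_stalk_of_iso (Y := V.toTopCat) e v (AddCommGrpCat.subsingleton_of_isZero hz)
    exact AddCommGrpCat.subsingleton_of_isZero h1
  have hW : Subsingleton (Coh.HH (W : Scheme.{u}) (Coh.structureModule (W : Scheme.{u})) (0 + 1)) :=
    subsingleton_HH_open W fun v hv => hdV v (hbad v hv)
  have hRW : ∀ n : ℕ, IsZero ((Coh.Rpush (q ∣_ W) (n + 1)).obj
      ((Coh.structureModule X).restrict (q ⁻¹ᵁ W).ι)) := by
    intro n
    rcases Nat.eq_zero_or_pos n with rfl | hn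
    · refine isZero_Rpush_restrict q _ 1 W fun v hv => ?_
      by_contra h
      exact hv h
    · have h1 : IsZero (((Coh.Rpush q (n + 1)).obj (Coh.structureModule X)).restrict W.ι) :=
        (Scheme.Modules.restrictFunctor W.ι).map_isZero
          ((Ega3B.RpushAbCmp.isZero_RpushAb_iff q _ (n + 1)).1 (hR (n + 1) (by omega)))
      exact h1.of_iso (CohqA.RpushLoc.rpushResOpen q W (n + 1) _).symm
  have h2 : Subsingleton (Coh.HH (q ⁻¹ᵁ W).toScheme (Coh.structureModule (q ⁻¹ᵁ W).toScheme) (0 + 1)) := by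
    refine K97.ModTools.subsingleton_HH_of_affine (q ∣_ W) (fun U => ?_) (fun U hU _ n => ?_) 0 hW
    · rw [ConcreteCategory.isIso_iff_bijective]
      exact Fga.UnitRestrict.bijective_morphismRestrict_app q
        (fun U => by have := hO U; exact ConcreteCategory.bijective_of_isIso _) W U
    · exact subsingleton_HH_affine q W (n + 1) (hRW n) U hU
  exact subsingleton_HH_of_open (q ⁻¹ᵁ W) (fun x hx => hdX x (hbad _ hx)) h2

end K162.KCoh
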