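import Groth.Agent.S1648
import Groth.Agent.S4366
import Groth.Agent.S1471
import Groth.Agent.CohqB.LocBaseRed
import Groth.Agent.Fga.UnitRestrict
import Groth.Agent.RatRes.K97.ModTools
import Groth.Agent.CurvesC.UnitCoh

/-!
# Vanishing of the stalk of `R^1 q_* O_X` at points with a regular local ring of dimension two
-/

set_option autoImplicit false

universe u

open CategoryTheory CategoryTheory.Limits AlgebraicGeometry Opposite TopologicalSpace

namespace K162.KLoc

open Groth.Agent Groth.Agent.CurvesC.Modif Groth.Agent.CurvesC.ModDim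

variable {X V : Scheme.{u}} {q : X ⟶ V}

theorem normal_pullback (hX : Pi1.IsNormalScheme X) (v : V) :
    Pi1.IsNormalScheme (pullback q (V.fromSpecStalk v)) := by
  intro t
  have h := Groth.Agent.S4366.result q v t
  obtain ⟨h1, h2⟩ := hX (pullback.fst q (V.fromSpecStalk v) t)
  let e := (asIso ((pullback.fst q (V.fromSpecStalk v)).stalkMap t)).commRingCatIsoToRingEquiv
  exact ⟨e.symm.toMulEquiv.isDomain _, IsIntegrallyClosed.of_equiv e⟩


theorem integral_pullback [IsIntegral V] (hq : IsModif q) (hX : Pi1.IsNormalScheme X) (v : V) :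
    IsIntegral (pullback q (V.fromSpecStalk v)) := by
  have := hq.proper
  have := hq.integral
  have := hq.surjective
  have hred : IsReduced (pullback q (V.fromSpecStalk v)) := by
    have : ∀ x : (pullback q (V.fromSpecStalk v) : Scheme.{u}),
        _root_.IsReduced ((pullback q (V.fromSpecStalk v)).presheaf.stalk x) := fun x => by
      have := (normal_pullback (q := q) hX v x).1
      infer_instance
    exact isReduced_of_isReduced_stalk _
  have hfl : Flat (pullback.fst q (V.fromSpecStalk v)) := by
    have := Groth.Agent.S1471.flat_fromSpecStalk V v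
    infer_instance
  have hinj : Function.Injective (pullback.fst q (V.fromSpecStalk v)) :=
    (pullback.fst q (V.fromSpecStalk v)).isEmbedding.injective
  have hgen : ∀ t : (pullback q (V.fromSpecStalk v) : Scheme.{u}),
      ∃ s : (pullback q (V.fromSpecStalk v) : Scheme.{u}), s ⤳ t ∧
        pullback.fst q (V.fromSpecStalk v) s = genericPoint X := by
    intro t
    obtain ⟨s, hs, hs'⟩ := (Flat.generalizingMap (pullback.fst q (V.fromSpecStalk v)))
      (genericPoint_specializes (pullback.fst q (V.fromSpecStalk v) t))
    exact ⟨s, hs, hs'⟩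
  have hne : Nonempty (pullback q (V.fromSpecStalk v) : Scheme.{u}) := by
    obtain ⟨t, -⟩ := (pullback.snd q (V.fromSpecStalk v)).surjective (IsLocalRing.closedPoint _)
    exact ⟨t⟩
  obtain ⟨t0⟩ := hne
  obtain ⟨s0, -, hs0⟩ := hgen t0
  have hirr : IrreducibleSpace (pullback q (V.fromSpecStalk v) : Scheme.{u}) := by
    refine (irreducibleSpace_def _).mpr ?_
    have h1 : closure {s0} = (Set.univ : Set (pullback q (V.fromSpecStalk v) : Scheme.{u})) := by
      refine Set.eq_univ_of_forall fun t => ?_
      obtain ⟨s, hs, hs'⟩ := hgen t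
      have : s = s0 := hinj (hs'.trans hs0.symm)
      rw [← this]
      exact hs.mem_closure
    have h2 : IsIrreducible (closure {s0} : Set (pullback q (V.fromSpecStalk v) : Scheme.{u})) :=
      isIrreducible_singleton.closure
    rw [h1] at h2
    exact h2
  exact isIntegral_of_irreducibleSpace_of_isReduced _

theorem isModif_pullback [IsIntegral V] (hq : IsModif q) (hX : Pi1.IsNormalScheme X) (v : V) :
    IsModif (pullback.snd q (V.fromSpecStalk v)) := by
  have := hq.proper
  obtain ⟨U, hU, hiso⟩ := hq.exists_isIso
  refine ⟨inferInstance, integral_pullback hq hX v, (V.fromSpecStalk v) ⁻¹ᵁ U, ?_, ?_⟩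
  · have h1 : genericPoint V ∈ U := ((genericPoint_spec V).mem_open_set_iff U.isOpen).mpr (by simpa using hU)
    have h2 : genericPoint V ∈ Set.range (V.fromSpecStalk v) := by
      rw [Scheme.range_fromSpecStalk]
      exact genericPoint_specializes v
    obtain ⟨y, hy⟩ := h2
    exact ⟨y, by rw [← hy] at h1; exact h1⟩
  · exact K97.ModTools.isIso_restrict_of_isPullback (IsPullback.of_hasPullback q (V.fromSpecStalk v)) U _ le_rfl

/-- The stalk of `R^1 q_* O_X` vanishes at points with a regular local ring of dimension two. -/
theorem isZero_stalk [IsIntegral V] (hq : IsModif q) (hX : Pi1.IsNormalScheme X) (v : V)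
    (hreg : IsRegularLocalRing (V.presheaf.stalk v)) (hN : CAlg.IsNagata (V.presheaf.stalk v))
    (hdim : ringKrullDim (V.presheaf.stalk v) = 2) :
    IsZero (TopCat.Presheaf.stalk ((Coh.RpushAb q 1).obj (Coh.toAb (Coh.structureModule X))).obj v) := by
  have := hq.proper
  have hrat := Groth.Agent.S1648.result (V.presheaf.stalk v) hN hdim
  have hm := isModif_pullback hq hX v
  have h1 : Subsingleton (Coh.HH (pullback q (V.fromSpecStalk v))
      (Coh.structureModule (pullback q (V.fromSpecStalk v))) 1) :=
    hrat _ (pullback.snd q (V.fromSpecStalk v)) hm.proper hm.integral (normal_pullback hX v) hm.exists_isIso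
  have h2 : Subsingleton (Coh.HH (pullback q (V.fromSpecStalk v))
      ((Scheme.Modules.pullback (pullback.fst q (V.fromSpecStalk v))).obj (Coh.structureModule X)) 1) :=
    Flat2D.LocalGlobalH.subsingleton_HH_of_iso
      (Fga.UnitRestrict.pullbackUnitIso (pullback.fst q (V.fromSpecStalk v))).symm 1 h1
  exact CohqB.LocBaseRed.isZero_stalk_of_local q v (Coh.structureModule X) (CurvesC.UnitCoh.isQCoh_unit X) 1
    (pullback.fst q (V.fromSpecStalk v)) (pullback.snd q (V.fromSpecStalk v))
    (IsPullback.of_hasPullback q (V.fromSpecStalk v)) h2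

end K162.KLoc
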