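import Groth.Agent.RatRes.K162.KCoh
import Groth.Agent.RatRes.K162.KDim
import Groth.Agent.RatRes.K162.KLoc
import Groth.Agent.RatRes.K162.KTop
import Groth.Agent.S0566
import Groth.Agent.Ega4B.NagBasic
import Groth.Agent.S2344

/-!
# Vanishing of the cohomology of `O_X` for a normal modification of a smooth curve over a normal variety, all
fibres over the variety being of dimension at most one
-/

set_option autoImplicit false

universe u

open CategoryTheory CategoryTheory.Limits AlgebraicGeometry Opposite TopologicalSpace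

namespace K162.KPiece

open Groth.Agent Groth.Agent.CurvesC.Modif

theorem subsingleton_HH_of_isZero {X V : Scheme.{u}} (q : X ⟶ V) [IsAffine V] [QuasiCompact q]
    [QuasiSeparated q] (M : X.Modules) (hM : Coh.IsQCoh M) (p : ℕ)
    (h : IsZero ((Coh.RpushAb q p).obj (Coh.toAb M))) : Subsingleton (Coh.HH X M p) := by
  obtain ⟨e⟩ := S0032.result q M p
  have h1 : IsZero (((Coh.RpushAb q p).obj (Coh.toAb M)).obj.obj (op ⊤)) :=
    Functor.map_isZero (sheafToPresheaf _ _ ⋙ (evaluation _ _).obj (op ⊤)) h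
  have h2 := AddCommGrpCat.subsingleton_of_isZero h1
  exact e.toEquiv.subsingleton

set_option maxHeartbeats 400000 in
/-- The key vanishing theorem. -/
theorem key (k : Type u) [Field k] {T V X : Scheme.{u}} (a : T ⟶ Spec (CommRingCat.of k))
    [LocallyOfFiniteType a] [IsIntegral T] (hT : Pi1.IsNormalScheme T) (g : V ⟶ T)
    [SmoothOfRelativeDimension 1 g] [IsAffine V] [IsIntegral V] (q : X ⟶ V) (hq : IsModif q)
    (hX : Pi1.IsNormalScheme X) (hfib : ∀ t : T, topologicalKrullDim ((q ≫ g).fiber t) ≤ 1) (n : ℕ) :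
    Subsingleton (Coh.HH X (Coh.structureModule X) (n + 1)) := by
  have := hq.proper
  have := hq.integral
  have hsm : Smooth g := SmoothOfRelativeDimension.smooth 1 g
  have hTn : IsLocallyNoetherian T := LocallyOfFiniteType.isLocallyNoetherian a
  have hVn : IsLocallyNoetherian V := LocallyOfFiniteType.isLocallyNoetherian g
  have hXn : IsLocallyNoetherian X := LocallyOfFiniteType.isLocallyNoetherian q
  have hV : Pi1.IsNormalScheme V := K97.ModTools.isNormalScheme_of_smooth hT g
  have hfq : ∀ v : V, topologicalKrullDim (q.fiber v) ≤ ((1 : ℕ) : WithBot ℕ∞) := fun v =>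
    (KTop.dim_fiber_le_comp q g v).trans (hfib (g v))
  have hR : ∀ p, 2 ≤ p → IsZero ((Coh.RpushAb q p).obj (Coh.toAb (Coh.structureModule X))) := fun p hp =>
    KCoh.isZero_RpushAb_of_fiber q 1 hfq _ (CurvesC.UnitCoh.isCoh_unit X) p (by omega)
  rcases Nat.eq_zero_or_pos n with rfl | hn
  swap
  · exact subsingleton_HH_of_isZero q _ (CurvesC.UnitCoh.isQCoh_unit X) (n + 1) (hR (n + 1) (by omega))
  -- the bad points
  have hbad : ∀ v : V, ¬ IsZero (TopCat.Presheaf.stalk ((Coh.RpushAb q 1).obj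
      (Coh.toAb (Coh.structureModule X))).obj v) →
      ¬ ringKrullDim (T.presheaf.stalk (g v)) ≤ 1 ∧ IsClosed ({g.asFiber v} : Set (g.fiber (g v))) := by
    intro v hv
    have h0 : ¬ topologicalKrullDim (q.fiber v) ≤ 0 := fun h => hv
      (Groth.Agent.S0042.result q v 0 (by exact_mod_cast h) _ (CurvesC.UnitCoh.isCoh_unit X) 1 one_pos)
    refine ⟨fun hle => ?_, KTop.isClosed_asFiber q g v h0 (hfib _)⟩
    obtain ⟨hTd, hTi⟩ := hT (g v)
    have hreg : IsRegularLocalRing (V.presheaf.stalk v) :=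
      Ega4dB.SmoothReg.isRegularLocalRing_stalk_of_smooth g v
        (Groth.Agent.S2344.isRegular_of_normal _ hle)
    obtain ⟨c, hc⟩ := KDim.exists_dim_eq (V.presheaf.stalk v)
    have h2 := KDim.dim_le_two g v hle c hc
    have h3 := KDim.two_le_of_fiber (g ≫ a) hq v h0 c hc
    have h4 : c = 2 := le_antisymm h2 h3
    subst h4
    exact hv (KLoc.isZero_stalk hq hX v hreg (KDim.isNagata_stalk (g ≫ a) v) hc)
  refine KCoh.subsingleton_HH_one q (K97.ModTools.isIso_app hV hq) hR (fun v hv => ?_) (fun x hx => ?_)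
  · obtain ⟨h1, h2⟩ := hbad v hv
    exact KDim.three_le_depth g hT v h1 h2
  · obtain ⟨h1, h2⟩ := hbad (q x) hx
    obtain ⟨s, b, c, ha, hb, hc, h⟩ := KDim.exists_dim_formula (g ≫ a) hq x
    have h3 := KDim.three_le_dim g (q x) h1 h2 c hc
    have h4 : (b : WithBot ℕ∞) ≤ (1 : ℕ) := (KDim.rtd_le_fiber q x b hb).trans (hfq _)
    have h5 : b ≤ 1 := by exact_mod_cast h4
    obtain ⟨hXd, hXi⟩ := hX x
    refine CalgA.SerreLocal.two_le_depth_of_isIntegrallyClosed (R := X.presheaf.stalk x) ?_
    rw [ha]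
    intro h6
    have h7 : s ≤ 1 := by exact_mod_cast h6
    omega

end K162.KPiece
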